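import Mathlib
import Cfsg.Agent.H87.WFunctor
import Cfsg.Agent.H87.FusGlau

/-!
# Generation by `C(℧¹ Z(P))` and `N(W(P))` in groups of characteristic `p`
-/

set_option autoImplicit false
set_option linter.unusedSectionVars false

namespace Cfsg.Agent.H87

open Cfsg Cfsg.FusionSystem Cfsg.Agent.Fus
open scoped commutatorElement

universe u

/-- `g` is a product of elements of `D` such that all partial products conjugate `A` into `S`. -/
inductive Reach {L : Type*} [Group L] (S : Subgroup L) (D : Set L) (A : Subgroup L) : L → Prop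
  | one : Reach S D A 1
  | step {g d : L} : Reach S D A g → (∀ a ∈ A, g * a * g⁻¹ ∈ S) → d ∈ D → (∀ a ∈ A, d * g * a * (d * g)⁻¹ ∈ S) →
      Reach S D A (d * g)

theorem Reach.map {L L' : Type*} [Group L] [Group L'] (φ : L' →* L) {S' : Subgroup L'} {D' : Set L'} {A' : Subgroup L'}
    {S : Subgroup L} {D : Set L} (hS : ∀ s ∈ S', φ s ∈ S) (hD : ∀ d ∈ D', φ d ∈ D) {g : L'} (h : Reach S' D' A' g) :
    Reach S D (A'.map φ) (φ g) := by
  induction h with
  | one => rw [map_one]; exact Reach.one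
  | @step g d h1 h2 h3 h4 ih =>
    rw [map_mul]
    refine Reach.step ih ?_ (hD _ h3) ?_
    · rintro _ ⟨a, ha, rfl⟩
      rw [← map_inv, ← map_mul, ← map_mul]
      exact hS _ (h2 a ha)
    · rintro _ ⟨a, ha, rfl⟩
      rw [← map_mul, ← map_inv, ← map_mul, ← map_mul]
      exact hS _ (h4 a ha)

variable {p : ℕ} [Fact p.Prime] (W : ∀ (Q : Type u) [Group Q], Subgroup Q)

/-- the generating set: `C(℧¹ Z(P)) ∪ N(W(P))` -/
def genSet {G : Type u} [Group G] (p : ℕ) (P : Subgroup G) : Set G :=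
  {d | (∀ z ∈ P, (∀ y ∈ P, y * z = z * y) → d * z ^ p = z ^ p * d) ∨ d ∈ Subgroup.normalizer (WO W P : Set G)}

variable (hW2 : ∀ (Q R : Type u) [Group Q] [Group R] [Finite Q], IsPGroup p Q → ∀ φ : Q ≃* R, (W Q).map φ.toMonoidHom = W R)
  (hq : ∀ (G : Type u) [Group G] [Finite G] (P : Sylow p G),
      ¬ (((W ↥(P : Subgroup G)).map (P : Subgroup G).subtype : Subgroup G)).Normal →
      ∃ g : G, g ∈ (P : Subgroup G) ∧ g ∉ pCore p G ∧
        ⁅⁅Subgroup.center ↥(pCore p G) |>.map (pCore p G).subtype, Subgroup.zpowers g⁆, Subgroup.zpowers g⁆ = ⊥)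

include hq in
/-- The key step: if `P ∩ C` is normal then `W(P)` is normal. -/
theorem W_normal_of_cent {G : Type u} [Group G] [Finite G] (P : Sylow p G)
    (h : ∀ c ∈ (P : Subgroup G), (∀ z ∈ pCore p G, (∀ y ∈ pCore p G, y * z = z * y) → c * z ^ p = z ^ p * c) →
      c ∈ pCore p G) : (WO W (P : Subgroup G)).Normal := by
  by_contra hWn
  obtain ⟨t, htP, htR, hquad⟩ := hq G P hWn
  have hp : p.Prime := Fact.out
  have hRn : (pCore p G).Normal := pCore_normal' p G
  obtain ⟨R, hR⟩ : ∃ R, R = pCore p G := ⟨_, rfl⟩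
  let C : Subgroup G := (Subgroup.center ↥(pCore p G)).map (pCore p G).subtype
  have hCm : ∀ {x : G}, x ∈ C ↔ x ∈ pCore p G ∧ ∀ y ∈ pCore p G, y * x = x * y := by
    intro x
    constructor
    · rintro ⟨v, hv, rfl⟩
      exact ⟨v.2, fun y hy => congrArg Subtype.val (Subgroup.mem_center_iff.mp hv ⟨y, hy⟩)⟩
    · rintro ⟨h1, h2⟩
      exact ⟨⟨x, h1⟩, Subgroup.mem_center_iff.mpr fun y => Subtype.ext (h2 y y.2), rfl⟩
  have hCab : ∀ x ∈ C, ∀ y ∈ C, x * y = y * x := fun x hx y hy =>
    ((hCm.mp hx).2 y (hCm.mp hy).1).symm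
  have hCn : C.Normal := inferInstance
  have hqu : ∀ x ∈ C, t * (t * x * t⁻¹ * x⁻¹) * t⁻¹ = t * x * t⁻¹ * x⁻¹ := by
    intro x hx
    have h2 := Subgroup.commutator_mem_commutator (Subgroup.commutator_mem_commutator hx
      (Subgroup.mem_zpowers t)) (Subgroup.mem_zpowers t)
    rw [hquad, Subgroup.mem_bot, commutatorElement_eq_one_iff_mul_comm, commutatorElement_def] at h2
    have h5 : t * x * t⁻¹ * x⁻¹ = (x * t * x⁻¹ * t⁻¹)⁻¹ := by group
    rw [h5]
    have h6 : Commute t (x * t * x⁻¹ * t⁻¹) := h2.symm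
    rw [h6.inv_right.eq, mul_inv_cancel_right]
  obtain ⟨k, hk⟩ := P.isPGroup' ⟨t, htP⟩
  have hk' : t ^ p ^ k ∈ pCore p G := by
    have : t ^ p ^ k = 1 := congrArg Subtype.val hk
    rw [this]
    exact Subgroup.one_mem _
  obtain ⟨m, hm, hmc⟩ := exists_centralizing_of_quadratic hp hCab (fun x hx => hCn.conj_mem x hx t) hqu htR hk'
    (fun x hx y hy => (hCm.mp hy).2 x hx)
  exact hm (h _ (Subgroup.pow_mem _ htP m) fun z hz hzc => hmc z (hCm.mpr ⟨hz, hzc⟩))

include hW2 hq in
theorem reach_group : ∀ (n : ℕ) (G : Type u) [Group G] [Finite G], Nat.card G = n → ∀ (P : Sylow p G),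
    Subgroup.centralizer ((pCore p G : Subgroup G) : Set G) ≤ pCore p G →
    ∀ (A : Subgroup G) (g : G), A ≤ (P : Subgroup G) → (∀ a ∈ A, g * a * g⁻¹ ∈ (P : Subgroup G)) →
      Reach (P : Subgroup G) (genSet W p (P : Subgroup G)) A g := by
  intro n
  induction n using Nat.strong_induction_on with
  | _ n ih =>
    intro G _ _ hn P hchar A g hA hg
    have hRn : (pCore p G).Normal := pCore_normal' p G
    have hRp : IsPGroup p (pCore p G) := isPGroup_pCore p G
    have hRP : pCore p G ≤ P := pCore_le_sylow P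
    -- `C`
    let X : Set G := {x | ∃ z ∈ pCore p G, (∀ y ∈ pCore p G, y * z = z * y) ∧ x = z ^ p}
    let C : Subgroup G := Subgroup.centralizer X
    have hCm : ∀ {c : G}, c ∈ C ↔ ∀ z ∈ pCore p G, (∀ y ∈ pCore p G, y * z = z * y) → c * z ^ p = z ^ p * c := by
      intro c
      show c ∈ Subgroup.centralizer X ↔ _
      rw [Subgroup.mem_centralizer_iff]
      constructor
      · exact fun h z hz hzc => (h _ ⟨z, hz, hzc, rfl⟩).symm
      · rintro h _ ⟨z, hz, hzc, rfl⟩
        exact (h z hz hzc).symm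
    have hCn : C.Normal := by
      refine ⟨fun c hc x => hCm.mpr fun z hz hzc => ?_⟩
      have h1 := hCm.mp hc (x⁻¹ * z * x⁻¹⁻¹) (hRn.conj_mem z hz x⁻¹) (fun y hy => by
        have h2 := hzc (x * y * x⁻¹) (hRn.conj_mem y hy x)
        calc y * (x⁻¹ * z * x⁻¹⁻¹) = x⁻¹ * ((x * y * x⁻¹) * z) * x := by group
          _ = x⁻¹ * (z * (x * y * x⁻¹)) * x := by rw [h2]
          _ = x⁻¹ * z * x⁻¹⁻¹ * y := by group)
      rw [conj_pow] at h1
      calc x * c * x⁻¹ * z ^ p = x * (c * (x⁻¹ * z ^ p * x⁻¹⁻¹)) * x⁻¹ := by group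
        _ = x * ((x⁻¹ * z ^ p * x⁻¹⁻¹) * c) * x⁻¹ := by rw [h1]
        _ = z ^ p * (x * c * x⁻¹) := by group
    have hCD : ∀ c ∈ C, c ∈ genSet W p (P : Subgroup G) := by
      intro c hc
      refine Or.inl fun z hz hzc => ?_
      refine hCm.mp hc z (hchar ?_) fun y hy => hzc y (hRP hy)
      rw [Subgroup.mem_centralizer_iff]
      exact fun y hy => hzc y (hRP hy)
    have hPs := sylIn_top P
    obtain ⟨T, hT⟩ : ∃ T, T = (P : Subgroup G) ⊓ C := ⟨_, rfl⟩
    have hTs : SylIn p T C := by rw [hT]; exact sylIn_inf_normal hPs hCn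
    obtain ⟨M, hM⟩ : ∃ M, M = Subgroup.normalizer (T : Set G) := ⟨_, rfl⟩
    have hPM : (P : Subgroup G) ≤ M := by
      intro x hx
      rw [hM]
      refine mem_normalizer_of_conj fun t ht => ?_
      rw [hT] at ht ⊢
      exact ⟨Subgroup.mul_mem _ (Subgroup.mul_mem _ hx ht.1) (Subgroup.inv_mem _ hx), hCn.conj_mem t ht.2 x⟩
    by_cases hMt : M = ⊤
    · -- `T` normal
      have hTn : T.Normal := by
        rw [hM] at hMt
        exact Subgroup.normalizer_eq_top_iff.mp hMt
      have hTR : T ≤ pCore p G := le_pCore hTn hTs.isPGroup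
      have hWn := W_normal_of_cent W hq P (fun c hc h => hTR (by rw [hT]; exact ⟨hc, hCm.mpr h⟩))
      have hgD : g ∈ genSet W p (P : Subgroup G) := by
        refine Or.inr (mem_normalizer_of_conj fun x hx => hWn.conj_mem x hx g)
      have h1 := Reach.step (S := (P : Subgroup G)) (D := genSet W p (P : Subgroup G)) (A := A) (g := 1) (d := g)
        Reach.one (fun a ha => by simpa using hA ha) hgD (fun a ha => by simpa using hg a ha)
      simpa using h1
    · -- `M` smaller
      obtain ⟨c, hc, m, hm, hgcm⟩ := exists_frattini hPs hCn g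
      rw [← hT, ← hM] at hm
      -- `B = m A m⁻¹`
      have hBH : ∀ b ∈ cj m A, b ∈ (C ⊓ M) ⊔ (P : Subgroup G) := by
        intro b hb
        rw [mem_cj] at hb
        have h1 := hg _ hb
        have hbM : b ∈ M := by
          have h2 := M.mul_mem (M.mul_mem hm (hPM (hA hb))) (M.inv_mem hm)
          have : m * (m⁻¹ * b * m) * m⁻¹ = b := by group
          rwa [this] at h2
        obtain ⟨y, hy⟩ : ∃ y, y = g * (m⁻¹ * b * m) * g⁻¹ := ⟨_, rfl⟩
        rw [← hy] at h1
        have h2 : b = c⁻¹ * y * c := by rw [hy, hgcm]; group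
        have h3 : b * y⁻¹ ∈ C := by
          have : b * y⁻¹ = c⁻¹ * (y * c * y⁻¹) := by rw [h2]; group
          rw [this]
          exact C.mul_mem (C.inv_mem hc) (hCn.conj_mem c hc y)
        have h4 : b * y⁻¹ ∈ M := M.mul_mem hbM (M.inv_mem (hPM h1))
        have h5 : b = (b * y⁻¹) * y := by group
        rw [h5]
        exact Subgroup.mul_mem _ (le_sup_left (a := C ⊓ M) (b := (P : Subgroup G)) ⟨h3, h4⟩)
          (le_sup_right (a := C ⊓ M) (b := (P : Subgroup G)) h1)
      have hBp : IsPGroup p (cj m A) := (P.isPGroup'.to_le hA).map _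
      obtain ⟨h, hh, hhB⟩ := (hPs.of_le (L' := (C ⊓ M) ⊔ (P : Subgroup G)) le_sup_right le_top).exists_cj_le
        (K := cj m A) hBH hBp
      -- decompose `h = y x`, `y ∈ P`, `x ∈ C ⊓ M`
      have hdec : ∃ y ∈ (P : Subgroup G), ∃ x ∈ C ⊓ M, h = y * x := by
        have hPN : (P : Subgroup G) ≤ Subgroup.normalizer ((C ⊓ M : Subgroup G) : Set G) := by
          intro y hy
          refine mem_normalizer_of_conj fun x hx => ?_
          exact ⟨hCn.conj_mem x hx.1 y, M.mul_mem (M.mul_mem (hPM hy) hx.2) (M.inv_mem (hPM hy))⟩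
        have h1 : h ∈ (((P : Subgroup G) ⊔ (C ⊓ M) : Subgroup G) : Set G) := by rw [sup_comm]; exact hh
        rw [Subgroup.coe_mul_of_left_le_normalizer_right _ _ hPN] at h1
        obtain ⟨y, hy, x, hx, hyx⟩ := h1
        exact ⟨y, hy, x, hx, hyx.symm⟩
      obtain ⟨y, hy, x, hx, rfl⟩ := hdec
      have hxm : x * m ∈ M := M.mul_mem hx.2 hm
      have hxmA : ∀ a ∈ A, x * m * a * (x * m)⁻¹ ∈ (P : Subgroup G) := by
        intro a ha
        have h1 := hhB (conj_mem_cj (g := y * x) (conj_mem_cj (g := m) ha))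
        have h2 := Subgroup.mul_mem _ (Subgroup.mul_mem _ (Subgroup.inv_mem _ hy) h1) hy
        have h3 : y⁻¹ * (y * x * (m * a * m⁻¹) * (y * x)⁻¹) * y = x * m * a * (x * m)⁻¹ := by group
        rwa [h3] at h2
      -- the Sylow subgroup of `M`
      have hfM : Nat.card M < n := by
        rw [← hn]
        have h1 : Nat.card M ≤ Nat.card (⊤ : Subgroup G) := Subgroup.card_le_of_le le_top
        rw [Subgroup.card_top] at h1
        refine lt_of_le_of_ne h1 fun h => hMt ?_
        exact Subgroup.eq_top_of_card_eq _ h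
      have hPMs : SylIn p (P : Subgroup G) M := hPs.of_le hPM le_top
      have hRM : (pCore p G).subgroupOf M ≤ pCore p M := by
        refine le_pCore ?_ ?_
        · exact hRn.subgroupOf M
        · exact hRp.comap_of_injective M.subtype M.subtype_injective
      have hcharM : Subgroup.centralizer ((pCore p M : Subgroup M) : Set M) ≤ pCore p M := by
        intro z hz
        apply hRM
        refine hchar (Subgroup.mem_centralizer_iff.mpr fun r hr => ?_)
        have hrM : r ∈ M := hPM (hRP hr)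
        exact congrArg Subtype.val (Subgroup.mem_centralizer_iff.mp hz ⟨r, hrM⟩ (hRM hr))
      have h1 := ih (Nat.card M) hfM M rfl hPMs.toSylow hcharM (A.subgroupOf M) ⟨x * m, hxm⟩
        (by rw [hPMs.coe_toSylow]; exact fun a ha => hA ha)
        (by rw [hPMs.coe_toSylow]; exact fun a ha => hxmA _ ha)
      have h2 := h1.map M.subtype (S := (P : Subgroup G)) (D := genSet W p (P : Subgroup G))
        (by rw [hPMs.coe_toSylow]; exact fun s hs => hs) (by
          rintro d (hd | hd)
          · refine Or.inl fun z hz hzc => ?_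
            exact congrArg Subtype.val (hd ⟨z, hPM hz⟩ hz fun y hy => Subtype.ext (hzc y hy))
          · right
            have hfP : Finite (P.subgroupOf M) := inferInstance
            have hPp : IsPGroup p ((P : Subgroup G).subgroupOf M) := hPMs.toSylow.isPGroup'
            have hmem : ∀ (x : G) (hx : x ∈ (P : Subgroup G)),
                (⟨x, hPM hx⟩ : M) ∈ WO W ((P : Subgroup G).subgroupOf M) ↔ x ∈ WO W (P : Subgroup G) := by
              intro x hx
              rw [map_WO W hW2 hPp (Subgroup.subgroupOfEquivOfLe hPM) (x := ⟨x, hPM hx⟩) hx]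
              rfl
            refine mem_normalizer_of_conj fun w hw => ?_
            have hwP := WO_le W _ hw
            have h3 := (Subgroup.mem_normalizer_iff.mp hd ⟨w, hPM hwP⟩).mp ((hmem w hwP).mpr hw)
            have h4 : ((d * ⟨w, hPM hwP⟩ * d⁻¹ : M) : G) ∈ (P : Subgroup G) :=
              WO_le W ((P : Subgroup G).subgroupOf M) h3
            exact (hmem _ h4).mp h3)
      rw [Subgroup.subgroupOf_map_subtype, inf_eq_left.mpr (hA.trans hPM)] at h2
      have h3 : g = (c * x⁻¹) * (x * m) := by rw [hgcm]; group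
      rw [h3]
      refine Reach.step h2 hxmA (hCD _ (C.mul_mem hc (C.inv_mem hx.1))) fun a ha => ?_
      rw [← h3]
      exact hg a ha

end Cfsg.Agent.H87
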