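import Mathlib
import Cfsg.Agent.H87.AgemoGen
import Cfsg.Agent.H87.KLFun
import Cfsg.Agent.Fus.FocFix

/-!
# `F = ⟨C_F(℧¹ Z(S)), N_F(W(S))⟩`
-/

set_option autoImplicit false
set_option linter.unusedSectionVars false

namespace Cfsg.Agent.H87

open Cfsg Cfsg.FusionSystem Cfsg.Agent.Fus

universe u

section Rel

variable {Ω : Type*} [Group Ω]

/-- preimage of the centre of `S/Q` -/
def relZ (Q S : Subgroup Ω) (hQ : S ≤ Subgroup.normalizer (Q : Set Ω)) : Subgroup Ω where
  carrier := {x | x ∈ S ∧ ∀ s ∈ S, s * x * s⁻¹ * x⁻¹ ∈ Q}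
  one_mem' := ⟨S.one_mem, fun s _ => by simp⟩
  mul_mem' := by
    rintro x y ⟨hx, hx'⟩ ⟨hy, hy'⟩
    refine ⟨S.mul_mem hx hy, fun s hs => ?_⟩
    have h : s * (x * y) * s⁻¹ * (x * y)⁻¹ = (s * x * s⁻¹ * x⁻¹) * (x * (s * y * s⁻¹ * y⁻¹) * x⁻¹) := by group
    rw [h]
    exact Q.mul_mem (hx' s hs) ((Subgroup.mem_normalizer_iff.mp (hQ hx) _).mp (hy' s hs))
  inv_mem' := by
    rintro x ⟨hx, hx'⟩
    refine ⟨S.inv_mem hx, fun s hs => ?_⟩
    have h3 : s * x⁻¹ * s⁻¹ * x⁻¹⁻¹ = x⁻¹ * (x * (s * x⁻¹ * s⁻¹)) * x⁻¹⁻¹ := by group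
    have h4 : x * (s * x⁻¹ * s⁻¹) = (s * x * s⁻¹ * x⁻¹)⁻¹ := by group
    rw [h3, h4]
    exact (Subgroup.mem_normalizer_iff.mp (hQ (S.inv_mem hx)) _).mp (Q.inv_mem (hx' s hs))

/-- preimage of `℧¹ Z(S/Q)` -/
def relC (p : ℕ) (Q S : Subgroup Ω) : Subgroup Ω :=
  Q ⊔ Subgroup.closure {x | ∃ y ∈ S, (∀ s ∈ S, s * y * s⁻¹ * y⁻¹ ∈ Q) ∧ x = y ^ p}

theorem relC_le {p : ℕ} {Q S U : Subgroup Ω} (hQ : Q ≤ U)
    (h : ∀ y ∈ S, (∀ s ∈ S, s * y * s⁻¹ * y⁻¹ ∈ Q) → y ^ p ∈ U) : relC p Q S ≤ U := by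
  refine sup_le hQ ((Subgroup.closure_le _).mpr ?_)
  rintro _ ⟨y, hy, hy', rfl⟩
  exact h y hy hy'

theorem mem_relC {p : ℕ} {Q S : Subgroup Ω} {y : Ω} (hy : y ∈ S) (hy' : ∀ s ∈ S, s * y * s⁻¹ * y⁻¹ ∈ Q) :
    y ^ p ∈ relC p Q S :=
  le_sup_right (a := Q) (Subgroup.subset_closure ⟨y, hy, hy', rfl⟩)

theorem le_relC {p : ℕ} {Q S : Subgroup Ω} : Q ≤ relC p Q S := le_sup_left

theorem relC_le_relZ {p : ℕ} {Q S : Subgroup Ω} (hQS : Q ≤ S) (hQ : S ≤ Subgroup.normalizer (Q : Set Ω)) :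
    relC p Q S ≤ relZ Q S hQ := by
  refine relC_le (fun q hq => ⟨hQS hq, fun s hs => ?_⟩) fun y hy hy' => (relZ Q S hQ).pow_mem ⟨hy, hy'⟩ p
  exact Q.mul_mem ((Subgroup.mem_normalizer_iff.mp (hQ hs) q).mp hq) (Q.inv_mem hq)

end Rel

variable {p : ℕ} [Fact p.Prime] (W : ∀ (Q : Type u) [Group Q], Subgroup Q)

theorem kl_agemo
    (hW1 : ∀ (Q : Type u) [Group Q] [Finite Q], IsPGroup p Q → Nontrivial Q → W Q ≠ ⊥)
    (hW2 : ∀ (Q R : Type u) [Group Q] [Group R] [Finite Q], IsPGroup p Q → ∀ φ : Q ≃* R, (W Q).map φ.toMonoidHom = W R)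
    (hq : ∀ (G : Type u) [Group G] [Finite G] (P : Sylow p G),
      ¬ (((W ↥(P : Subgroup G)).map (P : Subgroup G).subtype : Subgroup G)).Normal →
      ∃ g : G, g ∈ (P : Subgroup G) ∧ g ∉ pCore p G ∧
        ⁅⁅Subgroup.center ↥(pCore p G) |>.map (pCore p G).subtype, Subgroup.zpowers g⁆, Subgroup.zpowers g⁆ = ⊥)
    {Ω : Type u} [Group Ω] : KLHyp (Ω := Ω) p (fun {_} _ => True)
      (fun {S} F Q E => (∀ (P : Subgroup Ω) (f : Ω → Ω), relC p Q S ≤ P → IsMap F P f →
        (∀ x ∈ relC p Q S, f x * x⁻¹ ∈ Q) → IsMap E P f) ∧ ∀ X, IsRel W Q S X → NormIn F X E) where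
  norm F N R hS hF hH hR hN := trivial
  cent F F₁ Q hS hF hH hQ hF₁ := trivial
  mono F F' E Q hS hF hQ hQp hle hC := ⟨fun P f hP hf h => hC.1 P f hP (le_iff.mp hle P f hf) h,
    fun X hX => (hC.2 X hX).mono (le_iff.mp hle)⟩
  desc := by
    intro S T _ F N R Q E hTS hS hF hQ hQp hR hQR hne hN hW hC
    have hT : T = normalizerIn S R := by rw [hN.1, kNorm_top]
    have hfT := finite_of_le hTS
    have hTp : IsPGroup p T := isPGroup_of_le hS hTS
    have hQT : Q < T := by rw [hT]; exact lt_of_lt_of_le hQR (le_normalizerIn hR.1)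
    have hSN := IsNormal.le_normalizer hQ
    refine ⟨fun P f hP hf h => ?_, fun X hX P f hXP hP hf himg => ?_⟩
    · have hfF := isMap_of_isKSystem_top hN hf
      have hle : relC p Q S ≤ relC p Q T := by
        refine relC_le le_relC fun y hy hy' => mem_relC ?_ fun s hs => hy' s (hTS hs)
        rw [hT]
        have := finite_of_le hR.1
        refine ⟨hy, mem_normalizer_of_conj fun r hr => ?_⟩
        have h1 := hy' r (hR.1 hr)
        have h2 : y * r * y⁻¹ = (r * y * r⁻¹ * y⁻¹)⁻¹ * r := by group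
        rw [h2]
        exact R.mul_mem (R.inv_mem (hQR.le h1)) hr
      exact isMap_restr.mpr ⟨hf.le, fun x hx => hf.mem hx, hC.1 P f (hle.trans hP) hfF fun x hx => h x (hle hx)⟩
    · have hQX := hX.lt W hTp hW1 hQT
      have hXT := hX.le W
      have hfF := isMap_of_isKSystem_top hN hf
      have hle : normalizerIn S T ≤ normalizerIn S X := fun s hs =>
        ⟨hs.1, hX.mem_normalizer W hW2 hTp hs.2 (hSN hs.1)⟩
      have hcard : Nat.card T < Nat.card (normalizerIn S X) := by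
        have h1 := card_lt_of_lt (normalizerIn_le _) (lt_normalizerIn hS (lt_of_le_of_ne hTS hne))
        have h2 := finite_of_le (normalizerIn_le (S := S) X)
        exact lt_of_lt_of_le h1 (Subgroup.card_le_of_le hle)
      refine isMap_restr.mpr ⟨hf.le, fun x hx => hf.mem hx, ?_⟩
      exact hW X hQX (hXT.trans hTS) hcard P f hXP (le_inf hfF.le (hP.trans inf_le_right)) hfF himg
  up := by
    intro S _ F E Q Q₁ hS hF hQ hQ₁ hlt hQ₁S hQp hW hC
    have hSN := IsNormal.le_normalizer hQ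
    have hSN₁ := IsNormal.le_normalizer hQ₁
    refine ⟨fun P f hP hf h => ?_, fun X hX => ?_⟩
    · obtain ⟨X, hX⟩ : ∃ X, X = relC p Q₁ S := ⟨_, rfl⟩
      rw [← hX] at hP h
      have hQ₁X : Q₁ ≤ X := by rw [hX]; exact le_relC
      have hXZ : X ≤ relZ Q₁ S hSN₁ := by rw [hX]; exact relC_le_relZ hQ₁.1 hSN₁
      have hXS : X ≤ S := fun x hx => (hXZ hx).1
      by_cases he : X = Q₁
      · have hle : relC p Q S ≤ Q₁ := by
          rw [← he, hX]
          exact relC_le (hlt.le.trans le_relC) fun y hy hy' => mem_relC hy fun s hs => hlt.le (hy' s hs)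
        have hQ₁P : Q₁ ≤ P := hQ₁X.trans hP
        have hfQ : IsMap F Q₁ f := hf.mono hQ₁P
        have hfi : img Q₁ f = Q₁ := hfQ.img_of_normal hQ₁
        have hQf : F.IsFullyNormalized Q₁ := isFullyNormalized_of_normal hQ₁
        have h2 := IsFullyAutomized.le_of_isPGroup (sat_fullyAutomized hS hF hQf) le_rfl hQp
          (autInducedBy_le_autGroup hQ₁.1) (hfQ.aut_mem hfi)
        obtain ⟨s, hs, hsx⟩ := mem_autInducedBy'.mp h2
        refine hC.1 P f (hle.trans hQ₁P) hf fun x hx => ?_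
        have h3 := hsx x (hle hx)
        rw [hfQ.ofAut_aut hfi (hle hx)] at h3
        rw [h3]
        exact (relC_le_relZ hQ.1 hSN hx).2 s hs
      · have hfX : IsMap F X f := hf.mono hP
        have hfinX := finite_of_le hXS
        refine hW X (lt_of_le_of_ne hQ₁X (Ne.symm he)) hXS ?_ P f hP (hf.le.trans (le_inf le_rfl ?_)) hf ?_
        · intro s hs
          refine mem_normalizer_of_conj fun x hx => ?_
          have h1 : s * x * s⁻¹ = (s * x * s⁻¹ * x⁻¹) * x := by group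
          rw [h1]
          exact X.mul_mem (hQ₁X ((hXZ hx).2 s hs)) hx
        · intro s hs
          refine mem_normalizer_of_conj fun x hx => ?_
          have h1 : s * x * s⁻¹ = (s * x * s⁻¹ * x⁻¹) * x := by group
          rw [h1]
          exact X.mul_mem (hQ₁X ((hXZ hx).2 s hs)) hx
        · have := finite_of_le hXS
          refine hfX.img_eq fun x hx => ?_
          have h1 : f x = (f x * x⁻¹) * x := by group
          rw [h1]
          exact X.mul_mem (hQ₁X (h x hx)) hx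
    · exact hW X (hX.lt W hS hW1 hQ₁S) (hX.le W) fun s hs =>
        hX.mem_normalizer W hW2 hS (Subgroup.le_normalizer hs) (hSN₁ hs)
  model := by
    intro S _ F E Q hS hFc hH hQ hQp hC
    obtain ⟨G, _, ι, hM⟩ := exists_model hS hFc
    have hr := hM.2.1
    have hfG : Finite G := hM.1
    obtain ⟨L, _, hfL, π, P, σ, hπ, hk, hσs, hσ, hσk, hchar⟩ := model_data hS hM hQ hQp
    have hSN := IsNormal.le_normalizer hQ
    obtain ⟨X, hXrel⟩ : ∃ X, IsRel W Q S X := ⟨_, P, inferInstance, σ, hσs, hσk, rfl⟩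
    have hXS := hXrel.le W
    have hQX := hXrel.ge W hQ.1
    have hXσ : ∀ x (hx : x ∈ S), x ∈ X ↔ σ ⟨x, hx⟩ ∈ W P := by
      intro x hx
      have hXe := hXrel.unique W hW2 hS ⟨P, inferInstance, σ, hσs, hσk, rfl⟩
      rw [hXe]
      constructor
      · rintro ⟨y, hy, hyx⟩
        have : y = ⟨x, hx⟩ := Subtype.ext hyx
        subst this
        exact hy
      · exact fun h => ⟨⟨x, hx⟩, h, rfl⟩
    have hmemX : ∀ x (hx : x ∈ S), x ∈ X ↔ π (jj ι x) ∈ WO W (P : Subgroup L) := by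
      intro x hx
      rw [hXσ x hx]
      constructor
      · exact fun h => ⟨σ ⟨x, hx⟩, h, hσ x hx⟩
      · rintro ⟨y, hy, hyx⟩
        have : y = σ ⟨x, hx⟩ := Subtype.ext (hyx.trans (hσ x hx).symm)
        rw [← this]
        exact hy
    -- lifting elements of `P`
    have hlift : ∀ g : G, π g ∈ (P : Subgroup L) → ∃ y ∈ S, jj ι y = g := by
      intro g hg
      obtain ⟨⟨s, hs⟩, hse⟩ := hσs ⟨π g, hg⟩
      have h2 : π (jj ι s) = π g := by rw [← hσ s hs, hse]
      have h3 : π ((jj ι s)⁻¹ * g) = 1 := by rw [map_mul, map_inv, h2, inv_mul_cancel]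
      obtain ⟨q, hq', hqe⟩ := (hk _).mp h3
      exact ⟨s * q, S.mul_mem hs (hQ.1 hq'), by rw [jj_mul hs (hQ.1 hq'), hqe, mul_inv_cancel_left]⟩
    have hπS : ∀ s ∈ S, π (jj ι s) ∈ (P : Subgroup L) := fun s hs => by
      rw [← hσ s hs]
      exact (σ ⟨s, hs⟩).2
    -- the C-part
    have hCmem : ∀ d : L, (∀ z ∈ (P : Subgroup L), (∀ y ∈ (P : Subgroup L), y * z = z * y) → d * z ^ p = z ^ p * d) →
        ∀ x ∈ relC p Q S, d * π (jj ι x) = π (jj ι x) * d := by
      intro d hd x hx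
      have hxS : x ∈ S := (relC_le_relZ hQ.1 hSN hx).1
      refine Subgroup.closure_induction (p := fun x _ => x ∈ S ∧ d * π (jj ι x) = π (jj ι x) * d)
        ?_ ?_ ?_ ?_ (show x ∈ Subgroup.closure ((Q : Set Ω) ∪ {x | ∃ y ∈ S, (∀ s ∈ S, s * y * s⁻¹ * y⁻¹ ∈ Q) ∧ x = y ^ p}) by
          rwa [Subgroup.closure_union, Subgroup.closure_eq]) |>.2
      · rintro x (hx | ⟨y, hy, hy', rfl⟩)
        · refine ⟨hQ.1 hx, ?_⟩
          rw [(hk _).mpr ⟨x, hx, rfl⟩, mul_one, one_mul]
        · refine ⟨S.pow_mem hy p, ?_⟩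
          have h1 : jj ι (y ^ p) = (jj ι y) ^ p := by
            rw [jj_apply hy, jj_apply (S.pow_mem hy p), ← map_pow]
            rfl
          rw [h1, map_pow]
          refine hd _ (hπS y hy) fun w hw => ?_
          obtain ⟨s, hs, hsw⟩ : ∃ s ∈ S, π (jj ι s) = w := by
            obtain ⟨⟨s, hs⟩, hse⟩ := hσs ⟨w, hw⟩
            exact ⟨s, hs, by rw [← hσ s hs, hse]⟩
          rw [← hsw]
          have h2 : π (jj ι (s * y * s⁻¹ * y⁻¹)) = 1 := (hk _).mpr ⟨_, hy' s hs, rfl⟩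
          rw [jj_mul (S.mul_mem (S.mul_mem hs hy) (S.inv_mem hs)) (S.inv_mem hy), jj_mul (S.mul_mem hs hy) (S.inv_mem hs),
            jj_mul hs hy, jj_inv hs, jj_inv hy, map_mul, map_mul, map_mul, map_inv, map_inv] at h2
          exact mul_inv_eq_iff_eq_mul.mp (mul_inv_eq_one.mp h2)
      · exact ⟨S.one_mem, by rw [jj_one, map_one, mul_one, one_mul]⟩
      · rintro x y - - ⟨hx, hx'⟩ ⟨hy, hy'⟩
        refine ⟨S.mul_mem hx hy, ?_⟩
        rw [jj_mul hx hy, map_mul, ← mul_assoc, hx', mul_assoc, hy', mul_assoc]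
      · rintro x - ⟨hx, hx'⟩
        refine ⟨S.inv_mem hx, ?_⟩
        rw [jj_inv hx, map_inv]
        exact (show Commute d (π (jj ι x)) from hx').inv_right.eq
    rw [le_iff]
    intro P₀ f₀ hf₀
    obtain ⟨f, hf, hff₀, -⟩ := (isNormal_iff.mp hQ).2 P₀ f₀ hf₀
    obtain ⟨U, hU⟩ : ∃ U, U = P₀ ⊔ Q := ⟨_, rfl⟩
    rw [← hU] at hf
    suffices h : IsMap E U f from (h.mono (by rw [hU]; exact le_sup_left)).congr hff₀
    have hUS : U ≤ S := hf.le
    have hfS : ∀ x ∈ U, f x ∈ S := fun x hx => hf.mem hx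
    obtain ⟨-, -, g, hg⟩ := (isMap_realized hr).mp hf
    let A : Subgroup L := (imj ι U).map π
    have hAm : ∀ x ∈ U, π (jj ι x) ∈ A := fun x hx => ⟨_, jj_mem_imj hUS hx, rfl⟩
    have hA' : ∀ a ∈ A, ∃ x ∈ U, π (jj ι x) = a := by
      rintro _ ⟨y, hy, rfl⟩
      obtain ⟨x, hx, rfl⟩ := (mem_imj hUS).mp hy
      exact ⟨x, hx, rfl⟩
    have hreach := reach_group W hW2 hq (Nat.card L) L rfl P hchar A (π g)
      (by
        intro a ha
        obtain ⟨x, hx, rfl⟩ := hA' a ha
        exact hπS x (hUS hx))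
      (by
        intro a ha
        obtain ⟨x, hx, rfl⟩ := hA' a ha
        rw [← map_inv, ← map_mul, ← map_mul, ← hg x hx]
        exact hπS _ (hfS x hx))
    have key : ∀ h : L, Reach (P : Subgroup L) (genSet W p (P : Subgroup L)) A h →
        ∃ g' : G, π g' = h ∧ ∃ e, IsMap F U e ∧ IsMap E U e ∧ ∀ x ∈ U, jj ι (e x) = g' * jj ι x * g'⁻¹ := by
      intro h hh
      induction hh with
      | one =>
        refine ⟨1, map_one _, fun x => x, isMap_id hUS, isMap_id hUS, fun x hx => by group⟩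
      | @step h d h1 h2 h3 h4 ih =>
        obtain ⟨g', hg', e, he, heE, hej⟩ := ih
        obtain ⟨d', rfl⟩ := hπ d
        have hV : img U e ≤ S := he.img_le_iff.mpr fun x hx => he.mem hx
        have hVm : ∀ y ∈ img U e, ∃ z ∈ S, jj ι z = d' * jj ι y * d'⁻¹ := by
          intro y hy
          obtain ⟨x, hx, rfl⟩ := he.mem_img.mp hy
          apply hlift
          rw [map_mul, map_mul, map_inv, hej x hx, map_mul, map_mul, map_inv, hg']
          have h5 := h4 _ (hAm x hx)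
          have h6 : π d' * (h * π (jj ι x) * h⁻¹) * (π d')⁻¹ = π d' * h * π (jj ι x) * (π d' * h)⁻¹ := by group
          rw [h6]
          exact h5
        -- the extension of conjugation by `d'`
        have hstep : ∃ k, IsMap F (img U e) k ∧ IsMap E (img U e) k ∧ ∀ y ∈ img U e, jj ι (k y) = d' * jj ι y * d'⁻¹ := by
          rcases h3 with h3 | h3
          · have hYS : relC p Q S ≤ S := fun x hx => (relC_le_relZ hQ.1 hSN hx).1
            have hYq : ∀ x ∈ relC p Q S, ∃ q ∈ Q, jj ι (q * x) = d' * jj ι x * d'⁻¹ := by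
              intro x hx
              have h5 := hCmem _ h3 x hx
              have h6 : π (d' * jj ι x * d'⁻¹ * (jj ι x)⁻¹) = 1 := by
                rw [map_mul, map_mul, map_mul, map_inv, map_inv, h5]
                group
              obtain ⟨q, hq', hqe⟩ := (hk _).mp h6
              exact ⟨q, hq', by rw [jj_mul (hQ.1 hq') (hYS hx), hqe, inv_mul_cancel_right]⟩
            obtain ⟨k, hk', hkj⟩ := exists_ext_realized hr hV hYS (g := d') hVm (fun x hx => by
              obtain ⟨q, hq', hqe⟩ := hYq x hx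
              exact ⟨q * x, S.mul_mem (hQ.1 hq') (hYS hx), hqe⟩)
            have hkE := hC.1 _ k le_sup_right hk' (fun x hx => by
              obtain ⟨q, hq', hqe⟩ := hYq x hx
              have hx' := le_sup_right (a := img U e) hx
              have h7 : k x = q * x := by
                apply jj_inj hr.1 (hk'.mem hx') (S.mul_mem (hQ.1 hq') (hYS hx))
                rw [hkj x hx', hqe]
              rw [h7, mul_inv_cancel_right]
              exact hq')
            exact ⟨k, hk'.mono le_sup_left, hkE.mono le_sup_left, fun y hy => hkj y (le_sup_left (b := relC p Q S) hy)⟩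
          · have hXj : ∀ x ∈ X, ∃ y ∈ X, jj ι y = d' * jj ι x * d'⁻¹ := by
              intro x hx
              have h5 := (Subgroup.mem_normalizer_iff.mp h3 _).mp ((hmemX x (hXS hx)).mp hx)
              rw [← map_inv, ← map_mul, ← map_mul] at h5
              obtain ⟨y, hy, hye⟩ := hlift _ (WO_le W _ h5)
              rw [← hye] at h5
              exact ⟨y, (hmemX y hy).mpr h5, hye⟩
            obtain ⟨k, hk', hkj⟩ := exists_ext_realized hr hV hXS (g := d') hVm (fun x hx => by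
              obtain ⟨y, hy, hye⟩ := hXj x hx
              exact ⟨y, hXS hy, hye⟩)
            have hXN : img U e ⊔ X ≤ normalizerIn S X := by
              have hSX : S ≤ Subgroup.normalizer (X : Set Ω) := fun s hs =>
                hXrel.mem_normalizer W hW2 hS (Subgroup.le_normalizer hs) (hSN hs)
              exact le_inf hk'.le (hk'.le.trans hSX)
            have hkE := hC.2 X hXrel _ k le_sup_right hXN hk' (by
              have := finite_of_le hXS
              refine (hk'.mono le_sup_right).img_eq fun x hx => ?_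
              obtain ⟨y, hy, hye⟩ := hXj x hx
              have hx' := le_sup_right (a := img U e) hx
              have h7 : k x = y := by
                apply jj_inj hr.1 (hk'.mem hx') (hXS hy)
                rw [hkj x hx', hye]
              rw [h7]
              exact hy)
            exact ⟨k, hk'.mono le_sup_left, hkE.mono le_sup_left, fun y hy => hkj y (le_sup_left (b := X) hy)⟩
        obtain ⟨k, hkF, hkE, hkj⟩ := hstep
        refine ⟨d' * g', by rw [map_mul, hg'], fun x => k (e x), hkF.comp he fun x hx => subset_img hx,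
          hkE.comp heE fun x hx => subset_img hx, fun x hx => ?_⟩
        rw [hkj _ (subset_img hx), hej x hx]
        group
    obtain ⟨g', hg', e, he, heE, hej⟩ := key _ hreach
    have h1 : π (g * g'⁻¹) = 1 := by rw [map_mul, map_inv, hg', mul_inv_cancel]
    obtain ⟨q, hq', hqe⟩ := (hk _).mp h1
    have hqS := hQ.1 hq'
    have h2 : IsMap E U (fun x => q * e x * q⁻¹) :=
      (isMap_conj (F := E) (show img U e ≤ S from he.img_le_iff.mpr fun x hx => he.mem hx) hqS).comp heE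
        fun x hx => subset_img hx
    refine h2.congr fun x hx => ?_
    apply jj_inj hr.1 (S.mul_mem (S.mul_mem hqS (he.mem hx)) (S.inv_mem hqS)) (hfS x hx)
    rw [jj_mul (S.mul_mem hqS (he.mem hx)) (S.inv_mem hqS), jj_mul hqS (he.mem hx), jj_inv hqS, hqe, hej x hx, hg x hx]
    group

/-- `F = ⟨C_F(℧¹ Z(S)), N_F(W(S))⟩` -/
theorem agemo_generation
    (hW1 : ∀ (Q : Type u) [Group Q] [Finite Q], IsPGroup p Q → Nontrivial Q → W Q ≠ ⊥)
    (hW2 : ∀ (Q R : Type u) [Group Q] [Group R] [Finite Q], IsPGroup p Q → ∀ φ : Q ≃* R, (W Q).map φ.toMonoidHom = W R)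
    (hq : ∀ (G : Type u) [Group G] [Finite G] (P : Sylow p G),
      ¬ (((W ↥(P : Subgroup G)).map (P : Subgroup G).subtype : Subgroup G)).Normal →
      ∃ g : G, g ∈ (P : Subgroup G) ∧ g ∉ pCore p G ∧
        ⁅⁅Subgroup.center ↥(pCore p G) |>.map (pCore p G).subtype, Subgroup.zpowers g⁆, Subgroup.zpowers g⁆ = ⊥)
    {Ω : Type u} [Group Ω] {S : Subgroup Ω} [Finite S] (hS : IsPGroup p S) {F E : FusionSystem S}
    (hF : F.IsSaturated p)
    (hC : ∀ (P : Subgroup Ω) (f : Ω → Ω), powerClosure p 1 (S ⊓ Subgroup.centralizer (S : Set Ω)) ≤ P → IsMap F P f →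
      (∀ x ∈ powerClosure p 1 (S ⊓ Subgroup.centralizer (S : Set Ω)), f x = x) → IsMap E P f)
    (hN : NormIn F (WO W S) E) : F ≤ E := by
  have hV : relC p ⊥ S = powerClosure p 1 (S ⊓ Subgroup.centralizer (S : Set Ω)) := by
    apply le_antisymm
    · refine relC_le bot_le fun y hy hy' => Subgroup.subset_closure ⟨y, ⟨hy, ?_⟩, by rw [pow_one]⟩
      refine Subgroup.mem_centralizer_iff.mpr fun s hs => ?_
      exact mul_inv_eq_iff_eq_mul.mp (mul_inv_eq_one.mp (Subgroup.mem_bot.mp (hy' s hs)))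
    · refine (Subgroup.closure_le _).mpr ?_
      rintro _ ⟨y, ⟨hy, hyc⟩, rfl⟩
      rw [pow_one]
      refine mem_relC hy fun s hs => Subgroup.mem_bot.mpr ?_
      have h1 := Subgroup.mem_centralizer_iff.mp hyc s hs
      rw [h1]
      group
  have hrel : IsRel W ⊥ S (WO W S) := by
    refine ⟨S, inferInstance, MonoidHom.id S, Function.surjective_id, ?_, rfl⟩
    ext x
    rw [MonoidHom.mem_ker, Subgroup.mem_subgroupOf, Subgroup.mem_bot]
    exact ⟨fun h => congrArg Subtype.val h, fun h => Subtype.ext h⟩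
  refine kl_main (kl_agemo W hW1 hW2 hq) (mu F) F E ⊥ rfl hS hF trivial (Fus.Join.isNormal_bot F)
    isPGroup_autGroup_bot ⟨fun P f hP hf h => ?_, fun X hX => ?_⟩
  · rw [hV] at hP h
    exact hC P f hP hf fun x hx => mul_inv_eq_one.mp (Subgroup.mem_bot.mp (h x hx))
  · rw [hX.unique W hW2 hS hrel]
    exact hN

theorem agemo_thompson {Ω : Type u} [Group Ω] {S : Subgroup Ω} [Finite S] (hS : IsPGroup p S) {F E : FusionSystem S}
    (hF : F.IsSaturated p)
    {C : FusionSystem (centralizerIn S (powerClosure p 1 (S ⊓ Subgroup.centralizer (S : Set Ω))))}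
    (hC : F.IsCentralizerSystem (powerClosure p 1 (S ⊓ Subgroup.centralizer (S : Set Ω))) C)
    {N : FusionSystem (normalizerIn S (thompsonSubgroupAOf S))}
    (hN : F.IsNormalizerSystem (thompsonSubgroupAOf S) N) (hCE : C.IsSubsystemOf E) (hNE : N.IsSubsystemOf E) :
    F ≤ E := by
  refine agemo_generation (fun Q _ => thompsonSubgroupA Q) ?_ ?_ (fun G _ _ P h => thompson_quadratic_element P h)
    hS hF ?_ ?_
  · intro Q _ _ hQ hQn h
    have h1 := center_le_thompsonA (Q := Q)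
    rw [h] at h1
    have := IsPGroup.center_nontrivial hQ
    exact (Subgroup.nontrivial_iff_ne_bot _).mp this (le_bot_iff.mp h1)
  · exact fun Q R _ _ _ _ φ => Cfsg.Agent.ZJ.isNat_thompsonA Q R φ
  · intro P f hP hf h
    have hVS : powerClosure p 1 (S ⊓ Subgroup.centralizer (S : Set Ω)) ≤ S ⊓ Subgroup.centralizer (S : Set Ω) := by
      refine (Subgroup.closure_le _).mpr ?_
      rintro _ ⟨y, hy, rfl⟩
      exact Subgroup.pow_mem _ hy _
    have hcen : ∀ x ∈ S, x ∈ centralizerIn S (powerClosure p 1 (S ⊓ Subgroup.centralizer (S : Set Ω))) := fun x hx =>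
      mem_centralizerIn.mpr ⟨hx, fun y hy => (Subgroup.mem_centralizer_iff.mp (hVS hy).2 x hx).symm⟩
    refine isSubsystemOf_iff.mp hCE P f ((isMap_centralizerSystem hC).mpr ⟨fun x hx => hcen x (hf.le hx),
      fun x hx => hcen _ (hf.mem hx), f, ?_, fun _ _ => rfl, h⟩)
    rw [sup_eq_left.mpr hP]
    exact hf
  · intro P f hP hPN hf himg
    exact isSubsystemOf_iff.mp hNE P f ((isMap_normSys_of_le hN hP).mpr ⟨hPN, hf, himg⟩)

end Cfsg.Agent.H87
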