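import Mathlib
import Cfsg.Agent.H87.FusGlau
import Cfsg.Agent.H87.GroupModel
import Cfsg.Agent.Transfer.Fusion

/-!
# Applications of the fusion system theorems to the fusion systems of groups
-/

set_option autoImplicit false

namespace Cfsg.Agent.H87

open Cfsg Cfsg.FusionSystem Cfsg.Agent.Fus

variable {G : Type*} [Group G] [Finite G] {p : ℕ}

/-- the maps of a normalizer system in the fusion system of a group -/
theorem isMap_normSys_group {S Q : Subgroup G} {N : FusionSystem (normalizerIn S Q)}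
    (hN : (groupFusionSystem S).IsNormalizerSystem Q N) {P : Subgroup G} {f : G → G} (hf : IsMap N P f) :
    ∃ g ∈ Subgroup.normalizer (Q : Set G), ∀ x ∈ P, f x = g * x * g⁻¹ := by
  obtain ⟨-, -, g, hg, hgf, himg⟩ := (isMap_normSys hN).mp hf
  obtain ⟨-, -, h, hh⟩ := isMap_group.mp hg
  refine ⟨h, mem_normalizer_of_conj fun x hx => ?_, fun x hx => ?_⟩
  · rw [← hh x (le_sup_right (a := P) hx), ← himg]
    exact subset_img hx
  · rw [← hh x (le_sup_left (b := Q) hx), hgf x hx]

/-- With a normal `p`-complement every element of the group acts on the Sylow subgroup as an element of the latter. -/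
theorem exists_of_hasNPC [Fact p.Prime] (S : Sylow p G) {H : Subgroup G} (hSH : (S : Subgroup G) ≤ H)
    (hH : HasNormalPComplement p H) {g : G} (hg : g ∈ H) :
    ∃ z ∈ (S : Subgroup G), ∀ x ∈ (S : Subgroup G), g * x * g⁻¹ ∈ (S : Subgroup G) → g * x * g⁻¹ = z * x * z⁻¹ := by
  obtain ⟨P, hPdef⟩ : ∃ P : Sylow p H, P = S.subtype hSH := ⟨_, rfl⟩
  have hP : ∀ x : H, x ∈ (P : Subgroup H) ↔ (x : G) ∈ (S : Subgroup G) := by
    intro x
    rw [hPdef, Sylow.coe_subtype]
    exact Iff.rfl
  have hK := (Transfer.hasNPC_iff_disjoint P).mp hH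
  have h1 := Transfer.sylow_sup_pResidual P
  have hg' : (⟨g, hg⟩ : H) ∈ (P : Subgroup H) ⊔ pResidual p H := by rw [h1]; trivial
  have hKn : (pResidual p H).Normal := Transfer.pResidual_normal p
  rw [sup_comm, Subgroup.mem_sup_of_normal_left] at hg'
  obtain ⟨n, hn, z, hz, hnz⟩ := hg'
  refine ⟨z, (hP z).mp hz, fun x hx hgx => ?_⟩
  have hgz : g = (n : G) * (z : G) := (congrArg Subtype.val hnz).symm
  have hzS := (hP z).mp hz
  have h2 : (z : G) * x * (z : G)⁻¹ ∈ (S : Subgroup G) := Subgroup.mul_mem _ (Subgroup.mul_mem _ hzS hx) (Subgroup.inv_mem _ hzS)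
  have h3 : n * (z * ⟨x, hSH hx⟩ * z⁻¹) * n⁻¹ * (z * ⟨x, hSH hx⟩ * z⁻¹)⁻¹ ∈ (P : Subgroup H) ⊓ pResidual p H := by
    refine ⟨?_, ?_⟩
    · refine (hP _).mpr ?_
      show (n : G) * ((z : G) * x * (z : G)⁻¹) * (n : G)⁻¹ * ((z : G) * x * (z : G)⁻¹)⁻¹ ∈ (S : Subgroup G)
      refine Subgroup.mul_mem _ ?_ (Subgroup.inv_mem _ h2)
      rw [hgz] at hgx
      have : (n : G) * ((z : G) * x * (z : G)⁻¹) * (n : G)⁻¹ = n * z * x * ((n : G) * z)⁻¹ := by group
      rw [this]
      exact hgx
    · have : n * (z * ⟨x, hSH hx⟩ * z⁻¹) * n⁻¹ * (z * ⟨x, hSH hx⟩ * z⁻¹)⁻¹ =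
        n * ((z * ⟨x, hSH hx⟩ * z⁻¹) * n⁻¹ * (z * ⟨x, hSH hx⟩ * z⁻¹)⁻¹) := by group
      rw [this]
      exact Subgroup.mul_mem _ hn (hKn.conj_mem _ (Subgroup.inv_mem _ hn) _)
  rw [hK, Subgroup.mem_bot, mul_inv_eq_one] at h3
  have h4 := congrArg Subtype.val h3
  rw [hgz, ← show (n : G) * ((z : G) * x * (z : G)⁻¹) * (n : G)⁻¹ = n * z * x * ((n : G) * z)⁻¹ by group]
  exact h4

/-- If the fusion is induced by elements of the Sylow subgroup, the group has a normal `p`-complement. -/
theorem hasNPC_of_inner [Fact p.Prime] (S : Sylow p G)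
    (h : ∀ (P : Subgroup G) (f : G → G), IsMap (groupFusionSystem (S : Subgroup G)) P f →
      ∃ s ∈ (S : Subgroup G), ∀ x ∈ P, f x = s * x * s⁻¹) : HasNormalPComplement p G := by
  refine Transfer.hasNPC_of_controls_own_fusion (P := S) ?_
  rintro x hx _ hy ⟨g, rfl⟩
  have h1 : IsMap (groupFusionSystem (S : Subgroup G)) (Subgroup.zpowers x) (fun y => g * y * g⁻¹) := by
    refine isMap_group.mpr ⟨by rwa [Subgroup.zpowers_le], ?_, g, fun _ _ => rfl⟩
    rintro _ ⟨n, rfl⟩
    show g * x ^ n * g⁻¹ ∈ (S : Subgroup G)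
    rw [← conj_zpow]
    exact Subgroup.zpow_mem _ hy n
  obtain ⟨s, hs, h2⟩ := h _ _ h1
  exact ⟨s, hs, (h2 x (Subgroup.mem_zpowers x)).symm⟩

omit [Finite G] in
theorem sylow_le_normalizer_thompson [Fact p.Prime] (S : Sylow p G) :
    (S : Subgroup G) ≤ Subgroup.normalizer ((thompsonSubgroupAOf (S : Subgroup G) : Subgroup G) : Set G) := by
  have h1 := Cfsg.Agent.ZJ.normalizer_le_normalizer_rel Cfsg.Agent.ZJ.isNat_thompsonA (S : Subgroup G)
  exact fun s hs => h1 (Subgroup.le_normalizer hs)

/-- Glauberman's theorem on elements of the centre of `N_G(J(S))`. -/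
theorem thompson_weakly_closed [Fact p.Prime] (S : Sylow p G) {x : G} (hxS : x ∈ (S : Subgroup G))
    (hx : ∀ g ∈ Subgroup.normalizer ((thompsonSubgroupAOf (S : Subgroup G) : Subgroup G) : Set G), g * x = x * g)
    (h : p ≠ 2 ∨ (∃ z ∈ (S : Subgroup G) ⊓ Subgroup.centralizer ((S : Subgroup G) : Set G), z ^ p = x) ∨
      ¬ Involves (Equiv.Perm (Fin 4)) G) {g : G} (hg : g * x * g⁻¹ ∈ (S : Subgroup G)) : g * x * g⁻¹ = x := by
  have hSp : IsPGroup p (S : Subgroup G) := S.isPGroup'
  have hF := group_saturated S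
  have hJS : thompsonSubgroupAOf (S : Subgroup G) ≤ S := Subgroup.map_subtype_le _
  obtain ⟨N, hN⟩ := exists_isNormalizerSystem (groupFusionSystem (S : Subgroup G)) hJS
  have hSN := sylow_le_normalizer_thompson S
  have hxS' : ∀ s ∈ (S : Subgroup G), s * x = x * s := fun s hs => hx s (hSN hs)
  have hxN : x ∈ N.center := by
    have h1 : N.IsCentral (Subgroup.zpowers x) := by
      refine isCentral_iff.mpr ⟨?_, fun P f hf => ?_⟩
      · rw [Subgroup.zpowers_le]
        exact ⟨hxS, hSN hxS⟩
      · obtain ⟨g, hg, hgf⟩ := isMap_normSys_group hN hf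
        have hPN := hf.le
        refine ⟨fun y => g * y * g⁻¹, ?_, fun y hy => (hgf y hy).symm, ?_⟩
        · rw [isMap_normSys hN]
          have hmem : ∀ y ∈ P ⊔ Subgroup.zpowers x, g * y * g⁻¹ ∈ normalizerIn (S : Subgroup G) (thompsonSubgroupAOf (S : Subgroup G)) := by
            intro y hy
            refine Subgroup.closure_induction (p := fun y _ => g * y * g⁻¹ ∈ normalizerIn (S : Subgroup G) (thompsonSubgroupAOf (S : Subgroup G)))
              ?_ ?_ ?_ ?_ (show y ∈ Subgroup.closure ((P : Set G) ∪ (Subgroup.zpowers x : Set G)) by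
                rwa [Subgroup.closure_union, Subgroup.closure_eq, Subgroup.closure_eq])
            · rintro y (hy | hy)
              · rw [← hgf y hy]
                exact hf.mem hy
              · have : g * y * g⁻¹ = y := by
                  obtain ⟨n, rfl⟩ := hy
                  show g * x ^ n * g⁻¹ = x ^ n
                  rw [← conj_zpow, hx g hg, mul_inv_cancel_right]
                rw [this]
                exact (show Subgroup.zpowers x ≤ normalizerIn (S : Subgroup G) (thompsonSubgroupAOf (S : Subgroup G)) by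
                  rw [Subgroup.zpowers_le]; exact ⟨hxS, hSN hxS⟩) hy
            · rw [mul_one, mul_inv_cancel]
              exact Subgroup.one_mem _
            · intro y z _ _ hy hz
              have : g * (y * z) * g⁻¹ = (g * y * g⁻¹) * (g * z * g⁻¹) := by group
              rw [this]
              exact Subgroup.mul_mem _ hy hz
            · intro y _ hy
              have : g * y⁻¹ * g⁻¹ = (g * y * g⁻¹)⁻¹ := by group
              rw [this]
              exact Subgroup.inv_mem _ hy
          have hle : P ⊔ Subgroup.zpowers x ≤ normalizerIn (S : Subgroup G) (thompsonSubgroupAOf (S : Subgroup G)) := by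
            refine sup_le hPN ?_
            rw [Subgroup.zpowers_le]
            exact ⟨hxS, hSN hxS⟩
          have hJ : ∀ y ∈ thompsonSubgroupAOf (S : Subgroup G), g * y * g⁻¹ ∈ thompsonSubgroupAOf (S : Subgroup G) :=
            fun y hy => (Subgroup.mem_normalizer_iff.mp hg y).mp hy
          refine ⟨hle, hmem, fun y => g * y * g⁻¹, ?_, fun _ _ => rfl, ?_⟩
          · refine isMap_group.mpr ⟨sup_le (hle.trans (normalizerIn_le _)) hJS, fun y hy => ?_, g, fun _ _ => rfl⟩
            refine Subgroup.closure_induction (p := fun y _ => g * y * g⁻¹ ∈ (S : Subgroup G))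
              ?_ ?_ ?_ ?_ (show y ∈ Subgroup.closure (((P ⊔ Subgroup.zpowers x : Subgroup G) : Set G) ∪
                (thompsonSubgroupAOf (S : Subgroup G) : Set G)) by
                rwa [Subgroup.closure_union, Subgroup.closure_eq, Subgroup.closure_eq])
            · rintro y (hy | hy)
              · exact (hmem y hy).1
              · exact hJS (hJ y hy)
            · rw [mul_one, mul_inv_cancel]
              exact Subgroup.one_mem _
            · intro y z _ _ hy hz
              have : g * (y * z) * g⁻¹ = (g * y * g⁻¹) * (g * z * g⁻¹) := by group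
              rw [this]
              exact Subgroup.mul_mem _ hy hz
            · intro y _ hy
              have : g * y⁻¹ * g⁻¹ = (g * y * g⁻¹)⁻¹ := by group
              rw [this]
              exact Subgroup.inv_mem _ hy
          · have hQm : IsMap (groupFusionSystem (S : Subgroup G)) (thompsonSubgroupAOf (S : Subgroup G))
                (fun y => g * y * g⁻¹) := isMap_group.mpr ⟨hJS, fun y hy => hJS (hJ y hy), g, fun _ _ => rfl⟩
            exact hQm.img_eq hJ
        · rintro y ⟨n, rfl⟩
          show g * x ^ n * g⁻¹ = x ^ n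
          rw [← conj_zpow, hx g hg, mul_inv_cancel_right]
    exact (le_sSup (show Subgroup.zpowers x ∈ {Q : Subgroup G | N.IsCentral Q} from h1)) (Subgroup.mem_zpowers _)
  have hxF : x ∈ (groupFusionSystem (S : Subgroup G)).center := by
    rcases h with h | ⟨z, hz, rfl⟩ | h
    · rw [← center_thompson_eq hSp hF hN (Or.inl h)]
      exact hxN
    · have h := agemo_center_thompson hSp hF hN hz.1 (fun s hs => Subgroup.mem_centralizer_iff.mp hz.2 s hs) hxN
      exact (le_sSup (show Subgroup.zpowers (z ^ p) ∈ {Q : Subgroup G | (groupFusionSystem (S : Subgroup G)).IsCentral Q}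
        from h)) (Subgroup.mem_zpowers _)
    · rw [← center_thompson_eq hSp hF hN (Or.inr (isSectionFree_group S h))]
      exact hxN
  obtain ⟨-, hc⟩ := isCentral_iff.mp (Fus.Join.isCentral_center (groupFusionSystem (S : Subgroup G)))
  have h1 : IsMap (groupFusionSystem (S : Subgroup G)) (Subgroup.zpowers x) (fun y => g * y * g⁻¹) := by
    refine isMap_group.mpr ⟨by rwa [Subgroup.zpowers_le], ?_, g, fun _ _ => rfl⟩
    rintro _ ⟨n, rfl⟩
    show g * x ^ n * g⁻¹ ∈ (S : Subgroup G)
    rw [← conj_zpow]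
    exact Subgroup.zpow_mem _ hg n
  obtain ⟨k, -, hk1, hk2⟩ := hc _ _ h1
  have h2 := hk1 x (Subgroup.mem_zpowers x)
  rw [hk2 x hxF] at h2
  exact h2.symm

/-- Thompson's normal complement theorem: `C_G(Z(S))` and `N_G(J(S))` decide, for `p` odd or `S₄`-free groups. -/
theorem thompson_hasNPC [Fact p.Prime] (S : Sylow p G) (h : p ≠ 2 ∨ ¬ Involves (Equiv.Perm (Fin 4)) G)
    (hC : HasNormalPComplement p ↥(Subgroup.centralizer (((S : Subgroup G) ⊓ Subgroup.centralizer ((S : Subgroup G) : Set G) :
      Subgroup G) : Set G)))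
    (hN : HasNormalPComplement p ↥(Subgroup.normalizer ((thompsonSubgroupAOf (S : Subgroup G)) : Set G))) :
    HasNormalPComplement p G := by
  have hSp : IsPGroup p (S : Subgroup G) := S.isPGroup'
  have hF := group_saturated S
  have hJS : thompsonSubgroupAOf (S : Subgroup G) ≤ S := Subgroup.map_subtype_le _
  obtain ⟨N, hNs⟩ := exists_isNormalizerSystem (groupFusionSystem (S : Subgroup G)) hJS
  have hSN := sylow_le_normalizer_thompson S
  have hSC : (S : Subgroup G) ≤ Subgroup.centralizer (((S : Subgroup G) ⊓ Subgroup.centralizer ((S : Subgroup G) : Set G) :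
      Subgroup G) : Set G) := by
    intro s hs
    rw [Subgroup.mem_centralizer_iff]
    intro z hz
    exact (Subgroup.mem_centralizer_iff.mp hz.2 s hs).symm
  have hcen := thompson_inner hSp hF hNs (h.imp_right (isSectionFree_group S)) fun P f hf => by
    obtain ⟨g, hg, hgf⟩ := isMap_normSys_group hNs hf
    obtain ⟨s, hs, hsx⟩ := exists_of_hasNPC S hSN hN hg
    refine ⟨s, hs, fun x hx => ?_⟩
    rw [hgf x hx]
    refine hsx x (hf.le hx).1 ?_
    rw [← hgf x hx]
    exact (hf.mem hx).1
  refine hasNPC_of_inner S fun P f hf => ?_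
  obtain ⟨k, hk, hk1, hk2⟩ := (isCentral_iff.mp hcen).2 P f hf
  obtain ⟨-, -, g, hg⟩ := isMap_group.mp hk
  have hgC : g ∈ Subgroup.centralizer (((S : Subgroup G) ⊓ Subgroup.centralizer ((S : Subgroup G) : Set G) :
      Subgroup G) : Set G) := by
    rw [Subgroup.mem_centralizer_iff]
    intro z hz
    have h1 := hg z (le_sup_right (a := P) hz)
    rw [hk2 z hz] at h1
    rw [eq_mul_inv_iff_mul_eq] at h1
    exact h1
  obtain ⟨s, hs, hsx⟩ := exists_of_hasNPC S hSC hC hgC
  refine ⟨s, hs, fun x hx => ?_⟩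
  have hxs : x ∈ P ⊔ ((S : Subgroup G) ⊓ Subgroup.centralizer ((S : Subgroup G) : Set G)) := Subgroup.mem_sup_left hx
  rw [← hk1 x hx, hg x hxs]
  refine hsx x (hf.le hx) ?_
  rw [← hg x hxs, hk1 x hx]
  exact hf.mem hx

end Cfsg.Agent.H87
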